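import Groth.Agent.HomDesc.BaseChange
import Groth.Agent.CommGrpAbLib.Basic
import Groth.Agent.FixedSmooth.Cover
import Groth.Agent.FixedSmooth.Normalizer
import Groth.Prelude.Def_RedSub
/-!
Quotient homomorphisms, their base change and their uniqueness.
-/

set_option autoImplicit false
set_option backward.isDefEq.respectTransparency false
set_option backward.isDefEq.respectTransparency.types false
set_option linter.style.haveILetI false

universe u

open CategoryTheory CategoryTheory.Limits MonoidalCategory CartesianMonoidalCategory MonObj AlgebraicGeometry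

noncomputable section

namespace Groth.Agent.QuotTorus

open FixedSmooth

variable {S : Scheme.{u}} {H K T Q Q' : Over S} [GrpObj T] [GrpObj Q] [GrpObj Q']

/-- `q` is an fpqc epimorphism with kernel the subobject `i`. -/
structure QProp (i : H ⟶ T) (q : T ⟶ Q) : Prop where
  fpqc : SchDesc.IsFpqc q.left
  killed : i ≫ q = 1
  factor : ∀ {X : Over S} (k : X ⟶ T), k ≫ q = 1 → ∃ c : X ⟶ H, c ≫ i = k

theorem QProp.of_isQuotient {i : H ⟶ T} [GrpObj H] [IsMonHom i] {q : T ⟶ Q} [IsMonHom q] (hq : RedSub.IsQuotient i q) :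
    QProp i q := by
  obtain ⟨hs, hf, hp, hpb⟩ := hq
  have hμ : (T ◁ i) ≫ μ[T] = fst T H * (snd T H ≫ i) := by
    show _ = lift (fst T H) (snd T H ≫ i) ≫ μ[T]
    congr 1
  refine ⟨SchDesc.IsFpqc.of_locallyOfFinitePresentation q.left, ?_, fun {X} k hk => ?_⟩
  · have h := congrArg (lift (1 : H ⟶ T) (𝟙 H) ≫ ·) hpb.w
    simp only [← Category.assoc, hμ, lift_fst, MonObj.comp_mul, lift_snd, Category.id_comp, _root_.one_mul,
      MonObj.one_comp] at h
    exact h.symm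
  · obtain ⟨l, hl₁, hl₂⟩ := hpb.exists_lift (1 : X ⟶ T) k (by rw [MonObj.one_comp, hk])
    refine ⟨l ≫ snd T H, ?_⟩
    rw [hμ, MonObj.comp_mul, hl₁, _root_.one_mul] at hl₂
    rw [Category.assoc, hl₂]

theorem QProp.of_le {i : H ⟶ T} {j : K ⟶ T} {q : T ⟶ Q} (h : QProp j q) (ψ : H ≅ K) (hψ : ψ.hom ≫ j = i) :
    QProp i q := by
  refine ⟨h.fpqc, ?_, fun k hk => ?_⟩
  · rw [← hψ, Category.assoc, h.killed, MonObj.comp_one]
  · obtain ⟨c, hc⟩ := h.factor k hk
    exact ⟨c ≫ ψ.inv, by rw [← hψ, Category.assoc, Iso.inv_hom_id_assoc, hc]⟩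

theorem QProp.bc {i : H ⟶ T} {q : T ⟶ Q} (h : QProp i q) {S' : Scheme.{u}} (g : S' ⟶ S) :
    QProp (T := Red.bc g T) (Q := Red.bc g Q) ((Over.pullback g).map i) ((Over.pullback g).map q) := by
  refine ⟨?_, ?_, fun {X} k hk => ?_⟩
  · haveI := h.fpqc
    exact SchDesc.IsFpqc.of_isPullback (isPullback_bc g q)
  · rw [← Functor.map_comp, h.killed, Functor.map_one]
  · obtain ⟨k₀, rfl⟩ := (adjEquiv g T X).surjective k
    have h1 : k₀ ≫ q = 1 := by
      apply (adjEquiv g Q X).injective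
      rw [map_one, ← hk]
      exact (Over.mapPullbackAdj g).homEquiv_naturality_right k₀ q
    obtain ⟨c, hc⟩ := h.factor k₀ h1
    refine ⟨(Over.mapPullbackAdj g).homEquiv X H c, ?_⟩
    rw [← Adjunction.homEquiv_naturality_right, hc]
    rfl

theorem QProp.exists_hom {i : H ⟶ T} {q : T ⟶ Q} [IsMonHom q] (h : QProp i q) (f : T ⟶ Q') [IsMonHom f]
    (hf : i ≫ f = 1) : ∃ g : Q ⟶ Q', q ≫ g = f ∧ IsMonHom g := by
  haveI := h.fpqc
  obtain ⟨g, hg⟩ := GrpQuotLib.exists_desc q f (fun X x y hxy => by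
    obtain ⟨l, hl⟩ := h.factor (x * y⁻¹) (by rw [MonObj.mul_comp, GrpObj.inv_comp, hxy, mul_inv_cancel])
    have := congrArg (· ≫ f) hl
    simp only [Category.assoc, hf, MonObj.comp_one, MonObj.mul_comp, GrpObj.inv_comp] at this
    exact (mul_inv_eq_one.mp this.symm))
  exact ⟨g, hg, CommGrpAbLib.isMonHom_of_epi q g f hg⟩

theorem QProp.nonempty_iso {i : H ⟶ T} {q : T ⟶ Q} [IsMonHom q] {q' : T ⟶ Q'} [IsMonHom q'] (h : QProp i q)
    (h' : QProp i q') : Nonempty (Grp.mk Q ≅ Grp.mk Q') := by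
  obtain ⟨a, ha, _⟩ := h.exists_hom q' h'.killed
  obtain ⟨b, hb, _⟩ := h'.exists_hom q h.killed
  haveI := h.fpqc
  haveI := h'.fpqc
  haveI : Epi q := GrpQuotLib.epi_of_isFpqc _
  haveI : Epi q' := GrpQuotLib.epi_of_isFpqc _
  let e : Q ≅ Q' := ⟨a, b, (cancel_epi q).1 (by rw [reassoc_of% ha, hb, Category.comp_id]),
    (cancel_epi q').1 (by rw [reassoc_of% hb, ha, Category.comp_id])⟩
  haveI : IsMonHom e.hom := ‹IsMonHom a›
  exact ⟨Grp.mkIso' e⟩

/-- Base change along the identity. -/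
theorem nonempty_bcId_iso (X : Over S) [GrpObj X] : Nonempty (Grp.mk (Red.bc (𝟙 S) X) ≅ Grp.mk X) := by
  let e : Red.bc (𝟙 S) X ≅ X := Over.isoMk (asIso (pullback.fst X.hom (𝟙 S))) (by
    show pullback.fst X.hom (𝟙 S) ≫ X.hom = pullback.snd X.hom (𝟙 S)
    rw [pullback.condition, Category.comp_id])
  have hpt : ∀ (Y : Over S) (k : Y ⟶ Red.bc (𝟙 S) X), k ≫ e.hom =
      (Over.isoMk (Iso.refl Y.left) (by
        show 𝟙 _ ≫ Y.hom ≫ 𝟙 S = Y.hom
        simp) : (Over.map (𝟙 S)).obj Y ≅ Y).inv ≫ (adjEquiv (𝟙 S) X Y).symm k := fun Y k => by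
    apply Over.OverMorphism.ext
    show k.left ≫ pullback.fst X.hom (𝟙 S) = 𝟙 _ ≫ ((Over.map (𝟙 S)).map k ≫ (Over.mapPullbackAdj (𝟙 S)).counit.app X).left
    simp
  have hmul : ∀ (Y : Over S) (k k' : Y ⟶ Red.bc (𝟙 S) X), (k * k') ≫ e.hom = (k ≫ e.hom) * (k' ≫ e.hom) :=
    fun Y k k' => by rw [hpt, hpt, hpt, map_mul, MonObj.comp_mul]
  haveI : IsMonHom e.hom := by
    constructor
    · have h1 := hmul _ (1 : 𝟙_ (Over S) ⟶ Red.bc (𝟙 S) X) 1
      rw [_root_.one_mul, left_eq_mul] at h1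
      rw [MonObj.one_eq_one, MonObj.one_eq_one]
      exact h1
    · have h1 := hmul _ (fst (Red.bc (𝟙 S) X) (Red.bc (𝟙 S) X)) (snd _ _)
      rw [MonObj.mul_eq_mul, MonObj.mul_eq_mul, MonObj.comp_mul, tensorHom_fst, tensorHom_snd]
      exact h1
  exact ⟨Grp.mkIso' e⟩

end Groth.Agent.QuotTorus
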