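import Groth.Agent.QuotTorus.Split
/-!
The quotient of a split torus by a subgroup of multiplicative type is, locally, a split torus.
-/

set_option autoImplicit false
set_option backward.isDefEq.respectTransparency false
set_option backward.isDefEq.respectTransparency.types false
set_option linter.style.haveILetI false

universe u

open CategoryTheory CategoryTheory.Limits MonoidalCategory CartesianMonoidalCategory MonObj AlgebraicGeometry

noncomputable section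

namespace Groth.Agent.QuotTorus

open FixedSmooth HomTriv DSMapLib

variable {S : Scheme.{u}} {H : Over S} [GrpObj H] {M : Type} [AddCommGroup M] [AddGroup.FG M]

theorem exists_le_left {k : Type u} [Field k] {t : Spec (CommRingCat.of k) ⟶ S} {M' : Type} [AddCommGroup M']
    (σ : Split H t M') (i : H ⟶ Red.DS S M) [IsMonHom i] (φ : Multiplicative M →* Multiplicative M')
    (hφ : ∀ {D : CommRingCat.{u}} (g : CommRingCat.of k ⟶ D) (χ : Multiplicative M' →* D),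
      σ.pt D (Spec.map g) χ ≫ i = dsPt M (Spec.map g ≫ t) (χ.comp φ))
    (N : AddSubgroup M) (hN : ∀ m, m ∈ N ↔ φ (Multiplicative.ofAdd m) = 1) :
    MultKer.Le i (Red.DSmap S (QuotientAddGroup.mk' N)) t := fun Y p h => by
  refine exists_lift_of_comp_eq_one N.subtype (QuotientAddGroup.mk' N) (QuotientAddGroup.mk'_surjective N)
    (by rw [QuotientAddGroup.ker_mk', AddSubgroup.range_subtype]) (h ≫ i) ?_
  refine hom_ext_affine _ _ fun D q w => ?_
  rw [MonObj.comp_one]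
  obtain ⟨g, hg⟩ := Spec.map_surjective (w ≫ p).left
  have hq : q = Spec.map g ≫ t := by rw [hg]; exact (Over.w (w ≫ p)).symm
  subst hq
  obtain ⟨χ, hχ⟩ := (σ.pt D (Spec.map g)).surjective (w ≫ h)
  rw [← Category.assoc, ← Category.assoc w h i, ← hχ, hφ, dsPt_comp]
  have : (χ.comp φ).comp N.subtype.toMultiplicative = 1 := MonoidHom.ext fun n => by
    show χ (φ (Multiplicative.ofAdd ((Multiplicative.toAdd n : N) : M))) = 1
    rw [(hN _).1 (Multiplicative.toAdd n).2, map_one]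
  rw [this, map_one]

theorem exists_le_right {k : Type u} [Field k] {t : Spec (CommRingCat.of k) ⟶ S} {M' : Type} [AddCommGroup M']
    (σ : Split H t M') (i : H ⟶ Red.DS S M) [IsMonHom i] [Mono i.left] (φ : Multiplicative M →* Multiplicative M')
    (hsur : Function.Surjective φ)
    (hφ : ∀ {D : CommRingCat.{u}} (g : CommRingCat.of k ⟶ D) (χ : Multiplicative M' →* D),
      σ.pt D (Spec.map g) χ ≫ i = dsPt M (Spec.map g ≫ t) (χ.comp φ))
    (N : AddSubgroup M) (hN : ∀ m, m ∈ N ↔ φ (Multiplicative.ofAdd m) = 1) :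
    MultKer.Le (Red.DSmap S (QuotientAddGroup.mk' N)) i t := fun Y p h => by
  refine exists_lift_of_affine i (h ≫ Red.DSmap S (QuotientAddGroup.mk' N)) fun D q w => ?_
  obtain ⟨g, hg⟩ := Spec.map_surjective (w ≫ p).left
  have hq : q = Spec.map g ≫ t := by rw [hg]; exact (Over.w (w ≫ p)).symm
  subst hq
  obtain ⟨ξ, hξ⟩ := (dsPt (M ⧸ N) (Spec.map g ≫ t)).surjective (w ≫ h)
  let ζ : Multiplicative M →* D := ξ.comp (QuotientAddGroup.mk' N).toMultiplicative
  have hker : φ.ker ≤ ζ.toHomUnits.ker := fun m hm => by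
    have h0 : ((Multiplicative.toAdd m : M) : M ⧸ N) = 0 :=
      (QuotientAddGroup.eq_zero_iff _).2 ((hN _).2 (by simpa using hm))
    refine Units.ext ?_
    show ξ (Multiplicative.ofAdd ((Multiplicative.toAdd m : M) : M ⧸ N)) = 1
    rw [h0]
    exact map_one ξ
  let χ₀ : Multiplicative M' →* Dˣ := φ.liftOfSurjective hsur ⟨ζ.toHomUnits, hker⟩
  refine ⟨σ.pt D (Spec.map g) ((Units.coeHom _).comp χ₀), ?_⟩
  rw [hφ, ← Category.assoc w h, ← hξ, dsPt_comp]
  congr 1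
  refine MonoidHom.ext fun m => ?_
  exact congrArg Units.val (DFunLike.congr_fun (MonoidHom.liftOfRightInverse_comp φ (Function.surjInv hsur)
    (Function.rightInverse_surjInv hsur) ⟨ζ.toHomUnits, hker⟩) m)

theorem le_residue_of_le {G H₁ H₂ : Over S} (i₁ : H₁ ⟶ G) (i₂ : H₂ ⟶ G) [GrpObj G] [GrpObj H₁] [GrpObj H₂] [Mono i₂]
    {k : Type u} [Field k] {t : Spec (CommRingCat.of k) ⟶ S} (h : MultKer.Le i₁ i₂ t) :
    MultKer.Le i₁ i₂ (S.fromSpecResidueField (t (IsLocalRing.closedPoint k))) := by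
  rw [show IsLocalRing.closedPoint k = (⟨IsLocalRing.maximalIdeal k, inferInstance⟩ : PrimeSpectrum k) from rfl,
    MultKer.le_residue_iff i₁ i₂ (B := CommRingCat.of k) t]
  exact h.of_comp _ rfl

theorem points_comm_DS (M : Type) [AddCommGroup M] [AddGroup.FG M] {X : Over S} (a b : X ⟶ Red.DS S M) : a * b = b * a :=
  MultKer.points_comm (hasSplitCoversFG_of_isMultTypeFT (MultKer.isMultTypeFT_DS S M)).hasSplitCovers a b

theorem exists_clopen_both {G K : Over S} [GrpObj G] [GrpObj K] (hH : SGA3x.IsMultTypeFT H) (hK : SGA3x.IsMultTypeFT K)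
    (hGa : IsAffineHom G.hom) (hGf : LocallyOfFiniteType G.hom) (i : H ⟶ G) (hi : IsMonHom i) (hi' : Mono i) (j : K ⟶ G)
    (hj : IsMonHom j) (hj' : Mono j) (hc : ∀ (X : Over S) (a b : X ⟶ G), a * b = b * a) {s : S}
    (h₁ : MultKer.Le i j (S.fromSpecResidueField s)) (h₂ : MultKer.Le j i (S.fromSpecResidueField s)) :
    ∃ U : S.Opens, s ∈ U ∧ IsClosed (U : Set S) ∧
      ∃ ψ : Red.bc U.ι H ≅ Red.bc U.ι K, ψ.hom ≫ (Over.pullback U.ι).map j = (Over.pullback U.ι).map i := by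
  haveI := hGa
  haveI := hGf
  haveI := hi
  haveI := hi'
  haveI := hj
  haveI := hj'
  obtain ⟨U₁, hc₁, hU₁, hL₁⟩ := MultKer.exists_le_clopen hH hK (Or.inr inferInstance) i j (fun X a b => hc X _ _)
  obtain ⟨U₂, hc₂, hU₂, hL₂⟩ := MultKer.exists_le_clopen hK hH (Or.inr inferInstance) j i (fun X a b => hc X _ _)
  exact ⟨U₁ ⊓ U₂, ⟨(hU₁ _).2 h₁, (hU₂ _).2 h₂⟩, hc₁.inter hc₂, (MultKer.exists_iso_iff i j _).2
    ⟨hL₁.of_comp (S.homOfLE inf_le_left) (Scheme.homOfLE_ι _ _),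
      hL₂.of_comp (S.homOfLE inf_le_right) (Scheme.homOfLE_ι _ _)⟩⟩

/-- The subgroup is cut out by characters near every point. -/
theorem exists_char_nhd (hH : SGA3x.IsMultTypeFT H) (i : H ⟶ Red.DS S M) [IsMonHom i] [Mono i] (s : S) :
    ∃ (U : S.Opens) (N : AddSubgroup M), s ∈ U ∧ IsClosed (U : Set S) ∧
      ∃ ψ : Red.bc U.ι H ≅ Red.bc U.ι (Red.DS S (M ⧸ N)),
        ψ.hom ≫ (Over.pullback U.ι).map (Red.DSmap S (QuotientAddGroup.mk' N)) = (Over.pullback U.ι).map i := by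
  obtain ⟨k, _, t, M', _, _, ⟨σ⟩, rfl⟩ := exists_field_split hH s
  obtain ⟨φ, hφ⟩ := exists_char_field σ (dsSplit M t) i
  have hφ' : ∀ {D : CommRingCat.{u}} (g : CommRingCat.of k ⟶ D) (χ : Multiplicative M' →* D),
      σ.pt D (Spec.map g) χ ≫ i = dsPt M (Spec.map g ≫ t) (χ.comp φ) := fun g χ => hφ g χ
  let N : AddSubgroup M := (MonoidHom.toAdditive φ : M →+ M').ker
  have hN : ∀ m, m ∈ N ↔ φ (Multiplicative.ofAdd m) = 1 := fun m => Iff.rfl
  haveI : Mono i.left := Over.mono_left_of_mono i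
  have hsur := surjective_of_mono_split σ (dsSplit M t) i φ hφ
  haveI := isMonHom_DSmap S (QuotientAddGroup.mk' N)
  haveI := mono_of_isClosedImmersion _ (isClosedImmersion_DSmap S _ (QuotientAddGroup.mk'_surjective N))
  haveI : Mono (Red.DSmap S (QuotientAddGroup.mk' N)) := Over.mono_of_mono_left _
  haveI : AddGroup.FG (M ⧸ N) := inferInstance
  have e1 := @exists_clopen_both S H _ (Red.DS S M) (Red.DS S (M ⧸ N)) _ _ hH
  have e2 := e1 (MultKer.isMultTypeFT_DS S (M ⧸ N))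
  have e3 := e2 (isAffineHom_DS S M)
  have e4 := e3 (MonoFibre.locallyOfFiniteType_DS S M ‹_›)
  have e5 := e4 i ‹_›
  have e6 := e5 ‹_› (Red.DSmap S (QuotientAddGroup.mk' N))
  have e7 := e6 (isMonHom_DSmap S (QuotientAddGroup.mk' N)) ‹_›
  have e8 := @e7 (fun X a b => points_comm_DS M a b) (t (IsLocalRing.closedPoint k))
  have e9 := e8 (le_residue_of_le _ _ (exists_le_left σ i φ hφ' N hN))
  obtain ⟨U, h₁, h₂, h₃⟩ := e9 (le_residue_of_le _ _ (exists_le_right σ i φ hsur hφ' N hN))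
  exact ⟨U, N, h₁, h₂, h₃⟩

theorem nonempty_DS_iso (S : Scheme.{u}) {M N : Type} [AddCommGroup M] [AddCommGroup N] (e : M ≃+ N) :
    Nonempty (Grp.mk (Red.DS S M) ≅ Grp.mk (Red.DS S N)) := by
  have h : ∀ {A B : Type} [AddCommGroup A] [AddCommGroup B] (f : A ≃+ B),
      Red.DSmap S (f : A →+ B) ≫ Red.DSmap S (f.symm : B →+ A) = 𝟙 _ := fun {A B} _ _ f =>
    hom_ext_affine _ _ fun D q w => by
      obtain ⟨χ, rfl⟩ := (dsPt B q).surjective w
      rw [← Category.assoc, dsPt_comp, dsPt_comp, Category.comp_id]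
      congr 1
      refine MonoidHom.ext fun m => ?_
      show χ (Multiplicative.ofAdd (f (f.symm (Multiplicative.toAdd m)))) = χ m
      rw [AddEquiv.apply_symm_apply, ofAdd_toAdd]
  let g : Red.DS S M ≅ Red.DS S N := ⟨Red.DSmap S (e.symm : N →+ M), Red.DSmap S (e : M →+ N), h e.symm, h e⟩
  haveI : IsMonHom g.hom := isMonHom_DSmap S _
  exact ⟨Grp.mkIso' g⟩

variable {T Q : Over S} [GrpObj T] [GrpObj Q]

/-- The quotient of a split torus by a subgroup of multiplicative type is a split torus near every point. -/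
theorem exists_split_nhd {r : ℕ} (hT : Red.IsSplitTorusWith (Fin r → ℤ) T) (i : H ⟶ T) [IsMonHom i] [Mono i]
    (hH : SGA3x.IsMultTypeFT H) (q : T ⟶ Q) [IsMonHom q] (hq : QProp i q) (s : S) :
    ∃ (U : S.Opens) (r' : ℕ), s ∈ U ∧ IsClosed (U : Set S) ∧ r' ≤ r ∧
      Red.IsSplitTorusWith (Fin r' → ℤ) (Red.bc U.ι Q) := by
  obtain ⟨e⟩ := hT
  let e₀ : T ≅ Red.DS S (Fin r → ℤ) := ⟨e.hom.hom.hom, e.inv.hom.hom,
    congrArg (fun f => f.hom.hom) e.hom_inv_id, congrArg (fun f => f.hom.hom) e.inv_hom_id⟩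
  haveI : IsMonHom e₀.hom := e.hom.hom.isMonHom_hom
  haveI : IsMonHom e₀.inv := e.inv.hom.isMonHom_hom
  obtain ⟨U, N, hsU, hUc, ψ, hψ⟩ := exists_char_nhd hH (i ≫ e₀.hom) s
  haveI := isMonHom_DSmap S N.subtype
  have h₁ : QProp (Red.DSmap S (QuotientAddGroup.mk' N)) (Red.DSmap S N.subtype) :=
    ⟨isFpqc_DSmap S _ N.subtype_injective,
      comp_eq_one _ _ (AddMonoidHom.ext fun n => (QuotientAddGroup.eq_zero_iff _).2 n.2),
      fun k hk => exists_lift_of_comp_eq_one _ _ (QuotientAddGroup.mk'_surjective N)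
        (by rw [QuotientAddGroup.ker_mk', AddSubgroup.range_subtype]) k hk⟩
  have h₂ : QProp (T := Red.bc U.ι (Red.DS S (Fin r → ℤ))) (Q := Red.bc U.ι (Red.DS S N))
      ((Over.pullback U.ι).map (i ≫ e₀.hom)) ((Over.pullback U.ι).map (Red.DSmap S N.subtype)) :=
    (h₁.bc U.ι).of_le ψ hψ
  have h₃ : QProp (i ≫ e₀.hom) (e₀.inv ≫ q) := by
    haveI := hq.fpqc
    refine ⟨?_, by simpa using hq.killed, fun k hk => ?_⟩
    · haveI : IsIso e₀.inv.left := inferInstanceAs (IsIso ((Over.forget S).mapIso e₀).inv)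
      exact SchDesc.IsFpqc.of_isPullback
        (show IsPullback e₀.inv.left (e₀.inv ≫ q).left q.left (𝟙 Q.left) from
          IsPullback.of_horiz_isIso ⟨(Category.comp_id _).symm⟩)
    · obtain ⟨c, hc⟩ := hq.factor (k ≫ e₀.inv) (by rw [Category.assoc, hk])
      exact ⟨c, by rw [← Category.assoc, hc, Category.assoc, Iso.inv_hom_id, Category.comp_id]⟩
  obtain ⟨eQ⟩ := (h₃.bc U.ι).nonempty_iso h₂
  let NM : Submodule ℤ (Fin r → ℤ) := AddSubgroup.toIntSubmodule N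
  let b := Module.finBasis ℤ NM
  obtain ⟨eN⟩ := nonempty_DS_iso U.toScheme ((show N ≃+ NM from AddEquiv.refl _).trans b.equivFun.toAddEquiv)
  refine ⟨U, Module.finrank ℤ NM, hsU, hUc, (Submodule.finrank_le NM).trans (by simp), ⟨eQ ≪≫
    HomDesc.bcGrpIso U.ι (Limits.IsTerminal.from specULiftZIsTerminal S)
      (Limits.IsTerminal.hom_ext specULiftZIsTerminal _ _) (Red.diag (ULift.{u} ℤ) N) ≪≫ eN⟩⟩

/-- Base change of a quotient of a torus. -/
theorem exists_split_nhd_bc {S' : Scheme.{u}} (g : S' ⟶ S) {r : ℕ}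
    (hT : Red.IsSplitTorusWith (Fin r → ℤ) (Red.bc g T)) (i : H ⟶ T) [IsMonHom i] [Mono i]
    (hH : SGA3x.IsMultTypeFT H) (q : T ⟶ Q) [IsMonHom q] (hq : QProp i q) (s : S') :
    ∃ (U : S'.Opens) (r' : ℕ), s ∈ U ∧ IsClosed (U : Set S') ∧ r' ≤ r ∧
      Red.IsSplitTorusWith (Fin r' → ℤ) (Red.bc (U.ι ≫ g) Q) := by
  haveI : Mono ((Over.pullback g).map i) := Functor.map_mono _ _
  obtain ⟨U, r', hsU, hUc, hle, ⟨e⟩⟩ := exists_split_nhd hT ((Over.pullback g).map i) (HomDesc.isMultTypeFT_bc g hH)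
    ((Over.pullback g).map q) (hq.bc g) s
  exact ⟨U, r', hsU, hUc, hle, ⟨(HomDesc.bcGrpIso U.ι g rfl Q).symm ≪≫ e⟩⟩

/-- Being split passes to a finer chart. -/
theorem isSplit_of_comp {M' : Type} [AddCommGroup M'] {U V : Scheme.{u}} (c : V ⟶ U) (g : U ⟶ S) {d : V ⟶ S}
    (h : c ≫ g = d) {X : Over S} [GrpObj X] (hX : Red.IsSplitTorusWith M' (Red.bc g X)) :
    Red.IsSplitTorusWith M' (Red.bc d X) := by
  obtain ⟨e⟩ := hX
  exact ⟨(HomDesc.bcGrpIso c g h X).symm ≪≫ (Over.pullback c).mapGrp.mapIso e ≪≫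
    HomDesc.bcGrpIso c _ (Limits.IsTerminal.hom_ext specULiftZIsTerminal _ _) (Red.diag (ULift.{u} ℤ) M')⟩

/-- The quotient is split near every point of an open chart. -/
theorem exists_split_open {S' : Scheme.{u}} (f : S' ⟶ S) {U₀ : S'.Opens} {r : ℕ}
    (hT : Red.IsSplitTorusWith (Fin r → ℤ) (Red.bc (U₀.ι ≫ f) T)) (i : H ⟶ T) [IsMonHom i] [Mono i]
    (hH : SGA3x.IsMultTypeFT H) (q : T ⟶ Q) [IsMonHom q] (hq : QProp i q) {s : S'} (hs : s ∈ U₀) :
    ∃ U : S'.Opens, s ∈ U ∧ ∃ r' : ℕ, Red.IsSplitTorusWith (Fin r' → ℤ) (Red.bc (U.ι ≫ f) Q) := by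
  obtain ⟨U, r', hsU, -, -, hU⟩ := exists_split_nhd_bc (U₀.ι ≫ f) hT i hH q hq ⟨s, hs⟩
  refine ⟨U₀.ι ''ᵁ U, ⟨_, hsU, rfl⟩, r', isSplit_of_comp (U₀.ι.isoImage U).inv (U.ι ≫ U₀.ι ≫ f) ?_ hU⟩
  rw [← Scheme.Hom.isoImage_hom_ι_assoc, Iso.inv_hom_id_assoc]

end Groth.Agent.QuotTorus
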