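import Groth.Agent.QuotTorus.Prop
import Groth.Agent.DSMapLib.Exact
import Groth.Agent.MultKer.Locus
import Groth.Agent.SplitHom.Props
/-!
A subgroup of multiplicative type of a diagonalisable group is, locally, cut out by a group of characters.
-/

set_option autoImplicit false
set_option backward.isDefEq.respectTransparency false
set_option backward.isDefEq.respectTransparency.types false
set_option linter.style.haveILetI false

universe u

open CategoryTheory CategoryTheory.Limits MonoidalCategory CartesianMonoidalCategory MonObj AlgebraicGeometry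

noncomputable section

namespace Groth.Agent.QuotTorus

open FixedSmooth HomTriv DSMapLib

variable {S : Scheme.{u}} {G H : Over S} [GrpObj G] [GrpObj H]

/-- Over a field a homomorphism of split groups comes from a map of characters. -/
theorem exists_char_field {k : Type u} [Field k] {t : Spec (CommRingCat.of k) ⟶ S} {M M' : Type} [AddCommGroup M]
    [AddCommGroup M'] [AddGroup.FG M'] (σ : Split G t M) (τ : Split H t M') (u : G ⟶ H) [IsMonHom u] :
    ∃ φ : Multiplicative M' →* Multiplicative M,
      ∀ {D : CommRingCat.{u}} (g : CommRingCat.of k ⟶ D) (χ : Multiplicative M →* D),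
        σ.pt D (Spec.map g) χ ≫ u = τ.pt D (Spec.map g) (χ.comp φ) := by
  let B : CommRingCat.{u} := CommRingCat.of k
  obtain ⟨f, φ, hf, hφ⟩ := SplitHom.exists_char_hom σ τ u (⟨⊥, Ideal.isPrime_bot⟩ : PrimeSpectrum B)
  refine ⟨φ, fun {D} g χ => Over.OverMorphism.ext ?_⟩
  have h := hφ g (RingHom.isUnit_map g.hom (IsUnit.mk0 (G₀ := k) f fun h => hf (by
    show f ∈ (⊥ : Ideal B)
    exact h)))
  rw [univ_res, univ_res] at h
  let l : ∀ {N : Type} [AddCommGroup N], (Multiplicative N →* D) → (GA D N ⟶ D) :=
    fun {N} _ χ => CommRingCat.ofHom (L (RingHom.id D) χ)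
  have hl : ∀ {N : Type} [AddCommGroup N] (χ : Multiplicative N →* D), gmap g N ≫ l χ = gev g χ := fun χ => by
    refine CommRingCat.hom_ext (MonoidAlgebra.ringHom_ext (fun c => ?_) fun m => ?_)
    · simp [l]
    · simp [l]
  rw [Over.comp_left, pt_left, pt_left, ← hl χ, Spec.map_comp, Category.assoc, Category.assoc]
  rw [Category.assoc] at h
  rw [h, ← Category.assoc, ← Category.assoc, ← Spec.map_comp, ← Spec.map_comp]
  refine congrArg (fun z => Spec.map z ≫ (univ τ).left) ?_
  refine CommRingCat.hom_ext (MonoidAlgebra.ringHom_ext (fun c => ?_) fun m => ?_)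
  · simp [l, MonoidAlgebra.mapDomainRingHom]
  · simp [l, MonoidAlgebra.mapDomainRingHom]

/-- The splitting of `D(M)` by characters. -/
def dsSplit (M : Type) [AddCommGroup M] {U : Scheme.{u}} (b : U ⟶ S) : Split (Red.DS S M) b M where
  pt B q := dsPt M (q ≫ b)
  nat B B' q g χ := by
    let a : Over.mk ((Spec.map g ≫ q) ≫ b) ⟶ Over.mk (Spec.map g ≫ q ≫ b) := Over.homMk (𝟙 _) (by simp)
    letI := zAlg B
    letI := zAlg B'
    have hd := dsPtAux_natural (ULift.{u} ℤ) M (Limits.IsTerminal.from specULiftZIsTerminal S) (B := B) (B' := B')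
      (q ≫ b) g (specULiftZIsTerminal.hom_ext _ _) (specULiftZIsTerminal.hom_ext _ _) (fun r => map_intCast g.hom r.down) χ
    apply Over.OverMorphism.ext
    show Spec.map g ≫ (dsPt M (q ≫ b) χ).left = _
    refine (congrArg CommaMorphism.left hd).trans ?_
    have : ∀ (p p' : Spec B' ⟶ S) (hp : p = p') (χ : Multiplicative M →* B'),
        @Eq (Spec B' ⟶ (Red.DS S M).left) (dsPt M p χ).left (dsPt M p' χ).left := fun p p' hp χ => by
      subst hp; rfl
    exact this _ _ (Category.assoc _ _ _).symm _

/-- Every point of the base has a field-valued point over which a group of multiplicative type splits. -/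
theorem exists_field_split (hH : SGA3x.IsMultTypeFT H) (s : S) :
    ∃ (k : Type u) (_ : Field k) (t : Spec (CommRingCat.of k) ⟶ S) (M : Type) (_ : AddCommGroup M),
      AddGroup.FG M ∧ Nonempty (Split H t M) ∧ t (IsLocalRing.closedPoint k) = s := by
  obtain ⟨V, hV, hsV, -⟩ := exists_isAffineOpen_mem_and_subset (x := s) (U := ⊤) trivial
  obtain ⟨κ, _, B, g, -, hsur, hsp⟩ := (hasSplitCoversFG_of_isMultTypeFT hH).exists_over V hV
  obtain ⟨j, a, ha⟩ := hsur ⟨s, hsV⟩
  obtain ⟨M, _, hM, ⟨σ⟩⟩ := hsp j
  let a' : PrimeSpectrum (B j) := a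
  let e : B j ⟶ CommRingCat.of a'.asIdeal.ResidueField := CommRingCat.ofHom (algebraMap (B j) a'.asIdeal.ResidueField)
  refine ⟨a'.asIdeal.ResidueField, inferInstance, Spec.map e ≫ g j ≫ V.ι, M, inferInstance, hM,
    ⟨res σ e⟩, ?_⟩
  rw [Scheme.Hom.comp_apply, Scheme.Hom.comp_apply]
  have h : Spec.map e (IsLocalRing.closedPoint a'.asIdeal.ResidueField) = a := by
    refine PrimeSpectrum.ext ?_
    show (IsLocalRing.maximalIdeal a'.asIdeal.ResidueField).comap (algebraMap (B j) a'.asIdeal.ResidueField) = _
    rw [IsLocalRing.maximalIdeal_eq_bot]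
    exact Ideal.ker_algebraMap_residueField a'.asIdeal
  rw [h, ha]
  rfl

theorem surjective_of_mono_split {k : Type u} [Field k] {t : Spec (CommRingCat.of k) ⟶ S} {M M' : Type} [AddCommGroup M]
    [AddCommGroup M'] (σ : Split G t M) (τ : Split H t M') (u : G ⟶ H) [Mono u]
    (φ : Multiplicative M' →* Multiplicative M)
    (hφ : ∀ {D : CommRingCat.{u}} (g : CommRingCat.of k ⟶ D) (χ : Multiplicative M →* D),
        σ.pt D (Spec.map g) χ ≫ u = τ.pt D (Spec.map g) (χ.comp φ)) : Function.Surjective φ := by
  refine SplitHom.surjective_of_epi (CommRingCat.of k) φ fun {D} _ a b hab => ?_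
  let g : CommRingCat.of k ⟶ CommRingCat.of D := CommRingCat.ofHom (a.comp MonoidAlgebra.singleOneRingHom)
  have h0 : ∀ c : k, a (MonoidAlgebra.single 1 c) = b (MonoidAlgebra.single 1 c) := fun c => by
    have := RingHom.congr_fun hab (MonoidAlgebra.single 1 c)
    simpa [MonoidAlgebra.mapDomainRingHom] using this
  let χa : Multiplicative M →* D := a.toMonoidHom.comp (MonoidAlgebra.of _ _)
  let χb : Multiplicative M →* D := b.toMonoidHom.comp (MonoidAlgebra.of _ _)
  have hχ : χa = χb := by
    apply (σ.pt (CommRingCat.of D) (Spec.map g)).injective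
    rw [← cancel_mono u, hφ g χa, hφ g χb]
    congr 1
    refine MonoidHom.ext fun m => ?_
    have := RingHom.congr_fun hab (MonoidAlgebra.single m 1)
    simpa [MonoidAlgebra.mapDomainRingHom, χa, χb] using this
  exact MonoidAlgebra.ringHom_ext h0 fun m => DFunLike.congr_fun hχ m

end Groth.Agent.QuotTorus
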